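import Mathlib
import Cfsg.Prelude.Def_OddOrderLocal
import Cfsg.Agent.Lib.Helper2.BG.PartnerDefs
import Cfsg.Agent.Lib.Helper47.BG.S1354Core
import Cfsg.Agent.Lib.Helper27.BG.SigmaBasic
import Cfsg.Agent.Lib.Helper67.BG.Basics
import Cfsg.Agent.S1446

/-!
Bender–Glauberman 14.7 project (helper2, note 1946): packages KSTAR and T2.

* `lemKstar`: `C_{L_σ}(K) ≠ 1` for a nontrivial Hall `κ(L)`-subgroup `K` of a coatom `L`.
* `lemT2`: if `L` is not of type P1 then `|K|` is prime (B–G 14.2(g)), via S1446.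
-/

set_option autoImplicit false
set_option linter.style.haveILetI false

namespace Cfsg.Agent.Lib.Helper80.BG

open Cfsg Cfsg.Agent.Lib.Helper2.BG47

universe u

/-- Package KSTAR. -/
theorem lemKstar : Cfsg.Agent.Lib.Helper2.BG47.LemKstar.{u} := by
  intro G _ _ hG h1430 L hL K hK hK1
  obtain ⟨h1, -, -⟩ := h1430 L hL K hK hK1
  have hcard : Nat.card K ≠ 1 := fun h => hK1 (Subgroup.card_eq_one.mp h)
  obtain ⟨p, hp, hpK⟩ := Nat.exists_prime_and_dvd hcard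
  haveI : Fact p.Prime := ⟨hp⟩
  have hκ : p ∈ Cfsg.kappa L := hK.2.1 p hp hpK
  obtain ⟨P, hPK⟩ := Cfsg.Agent.Lib.Helper47.BG.exists_sylow_le_of_isPiHallOf hK hκ
  obtain ⟨-, x, hxP, hx1, y, hy, hy1, hxy⟩ := hκ.2.2.2 P
  have hxK : (x : G) ∈ K := hPK x hxP
  have hx1' : (x : G) ≠ 1 := fun h => hx1 (Subtype.ext h)
  have hyC : y ∈ Cfsg.sigmaCore L ⊓ Subgroup.centralizer ({(x : G)} : Set G) := by
    refine Subgroup.mem_inf.mpr ⟨hy, ?_⟩
    rw [Subgroup.mem_centralizer_iff]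
    intro h hh
    rw [Set.mem_singleton_iff] at hh
    rw [hh]; exact hxy
  rw [h1 x hxK hx1'] at hyC
  intro hbot
  have hyC' : y ∈ kstar L K := hyC
  rw [hbot, Subgroup.mem_bot] at hyC'
  exact hy1 hyC'

/-- Package T2. -/
theorem lemT2 : Cfsg.Agent.Lib.Helper2.BG47.LemT2.{u} := by
  intro G _ _ hG h1429 h1430 L hL K hK hK1 hP1
  have hks : kstar L K ≠ ⊥ := lemKstar hG h1430 L hL K hK hK1
  obtain ⟨h1, ⟨U, hUab, hU, hKU, hfrob⟩, -⟩ := h1430 L hL K hK hK1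
  -- a prime outside sigma ∪ kappa
  have hP1' : ¬ (∀ q : ℕ, q.Prime → q ∣ Nat.card L → q ∉ Cfsg.sigma L → q ∈ Cfsg.kappa L) := hP1
  have hP1'' := hP1'
  push Not at hP1''
  obtain ⟨r, hr, hrL, hrσ, hrκ⟩ := hP1''
  haveI : Fact r.Prime := ⟨hr⟩
  have hrπ : r ∈ {q : ℕ | q.Prime ∧ q ∉ Cfsg.kappa L ∧ q ∉ Cfsg.sigma L} := ⟨hr, hrκ, hrσ⟩
  obtain ⟨S, hSU⟩ := Cfsg.Agent.Lib.Helper47.BG.exists_sylow_le_of_isPiHallOf hU hrπ
  have hrσκ : r ∉ Cfsg.sigma L ∪ Cfsg.kappa L := by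
    rintro (h | h)
    · exact hrσ h
    · exact hrκ h
  obtain ⟨-, hC, hnil⟩ := h1429 L hL hP1' r hrL hrσκ S
  -- Ω ≤ U
  have hΩU : Subgroup.closure {x : G | x ∈ (S : Subgroup L).map L.subtype ∧ x ^ r = 1} ≤ U := by
    rw [Subgroup.closure_le]
    rintro x ⟨⟨y, hy, rfl⟩, -⟩
    exact hSU y hy
  have hCU : Cfsg.sigmaCore L ⊓ Subgroup.centralizer (U : Set G) = ⊥ := by
    rw [eq_bot_iff, ← hC]
    exact inf_le_inf_left _ (Subgroup.centralizer_le hΩU)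
  -- U ≠ ⊥
  have hU1 : U ≠ ⊥ := by
    intro hbot
    have hS1 : (S : Subgroup L) = ⊥ := by
      rw [eq_bot_iff]
      intro y hy
      have := hSU y hy
      rw [hbot, Subgroup.mem_bot] at this
      rw [Subgroup.mem_bot]
      exact Subtype.ext this
    have hdvd : r ∣ Nat.card (S : Subgroup L) := by
      have := S.card_eq_multiplicity
      rw [this]
      have hfin : Nat.card L ≠ 0 := Nat.card_pos.ne'
      have : 1 ≤ (Nat.card L).factorization r :=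
        (hr.factorization_pos_of_dvd hfin hrL)
      exact dvd_pow_self r (by omega)
    rw [hS1, Subgroup.card_bot] at hdvd
    exact hr.one_lt.ne' (Nat.dvd_one.mp hdvd)
  -- U ⊓ K = ⊥
  have hUK : U ⊓ K = ⊥ := by
    by_contra hne
    have hcard : Nat.card (U ⊓ K : Subgroup G) ≠ 1 := fun h => hne (Subgroup.card_eq_one.mp h)
    obtain ⟨p, hp, hpd⟩ := Nat.exists_prime_and_dvd hcard
    have h1 : p ∣ Nat.card U := hpd.trans (Subgroup.card_dvd_of_le inf_le_left)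
    have h2 : p ∣ Nat.card K := hpd.trans (Subgroup.card_dvd_of_le inf_le_right)
    exact (hU.2.1 p hp h1).2.1 (hK.2.1 p hp h2)
  have hUL : U ≤ L := hU.1
  have hKL : K ≤ L := hK.1
  have hUKL : U ⊔ K ≤ L := sup_le hUL hKL
  have hLtop : L ≠ ⊤ := hL.1
  have hsolvL : Group.IsSolvable ↥L := hG.2.2.2 L hLtop
  have hsolv : Group.IsSolvable ↥(U ⊔ K) :=
    Group.isSolvable_of_isSolvable_injective (f := Subgroup.inclusion hUKL)
      (Subgroup.inclusion_injective hUKL)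
  have hodd : Odd (Nat.card ↥(U ⊔ K)) := by
    have hdvd : Nat.card ↥(U ⊔ K) ∣ Nat.card G := Subgroup.card_subgroup_dvd_card _
    exact Odd.of_dvd_nat hG.1 hdvd
  have hM1 : Cfsg.sigmaCore L ≠ ⊥ := by
    intro hbot
    apply hks
    rw [eq_bot_iff]
    intro x hx
    have : x ∈ Cfsg.sigmaCore L := hx.1
    rw [hbot] at this
    exact this
  have hnorm := Cfsg.Agent.Lib.Helper67.BG.sigmaCore_normalizer L
  have hcop : (Nat.card ↥(U ⊔ K)).Coprime (Nat.card (Cfsg.sigmaCore L)) := by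
    rw [Nat.coprime_iff_gcd_eq_one]
    by_contra hne
    obtain ⟨p, hp, hpd⟩ := Nat.exists_prime_and_dvd hne
    have h1 : p ∣ Nat.card ↥(U ⊔ K) := hpd.trans (Nat.gcd_dvd_left _ _)
    have h2 : p ∣ Nat.card (Cfsg.sigmaCore L) := hpd.trans (Nat.gcd_dvd_right _ _)
    have hσ : p ∈ Cfsg.sigma L := Cfsg.Agent.Lib.Helper67.BG.sigmaCore_isPi L p hp h2
    have h3 : p ∣ Nat.card K * Nat.card U := by
      have := Cfsg.Agent.Lib.Helper27.BG.card_sup_dvd_mul hKU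
      rw [sup_comm] at this
      exact h1.trans this
    rcases (Nat.Prime.dvd_mul hp).mp h3 with h | h
    · exact (hK.2.1 p hp h).2.2.1 hσ
    · exact (hU.2.1 p hp h).2.2 hσ
  exact (Cfsg.Agent.S1446.result U K (Cfsg.sigmaCore L) hU1 hK1 hUK hKU hfrob hsolv hodd hM1 hnil
    (hUL.trans hnorm) (hKL.trans hnorm) hcop hCU h1).1

end Cfsg.Agent.Lib.Helper80.BG
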